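import Cfsg.Agent.Recog.X8.Inp
import Cfsg.Agent.F4L.D

/-! Named elements of the groups `LL m` and the input of the construction of the subgroup of type `F₄`.
Letters: 0 y, 1 z, 2 a1, 3 a2, 4 b1, 5 b2, 6 d1, 7 d2, 8 p12, 9 p23, 10 p34, 11 t, 12 c, 13 e. -/

set_option autoImplicit false
set_option maxRecDepth 100000

namespace CF.F4L
open Subgroup CF.Comp CF.Dce CF.J4 CF.X8

attribute [local irreducible] pe

/-- the words of the named elements -/
def KW : List (List ℕ) := [[], [], [4], [4, 0], [3, 4], [1, 1, 4, 0, 1], [1, 0, 4, 1, 1], [1, 4, 1, 1], [], [0, 1, 0, 0, 1, 2, 2], [2, 2], [], [2, 0, 2, 4, 2, 0], [0, 0, 1, 5, 1, 1, 0]]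
/-- their codes -/
noncomputable def KC : List ℕ := [nat_lit 0x8040201008040201,
  nat_lit 0x8040201008040201,
  nat_lit 0x408030140803010,
  nat_lit 0xc040102c0401020,
  nat_lit 0x3010c04001020408,
  nat_lit 0x203080c00203080c,
  nat_lit 0x30104081020c040,
  nat_lit 0x203080c203080c0,
  nat_lit 0x8040201008040201,
  nat_lit 0x80400c0810300201,
  nat_lit 0x8040020108042010,
  nat_lit 0x8040201008040201,
  nat_lit 0x3719c74951a2f458,
  nat_lit 0xb458e35149863619]
/-- the generators of the other Levi factor -/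
def PW : List (List ℕ) := [[9], [3, 2, 4, 5, 9], [0, 6, 8, 9, 10, 9, 8], [0, 7, 9, 11, 3, 5, 11], [8, 9, 10, 9, 8], [9, 11, 3, 5, 11], [2, 4, 9], [3, 5, 9], [0, 4, 11, 0, 4], [0], [11], [10]]
/-- elements that commute with `e` -/
def FW : List (List ℕ) := [[0], [1], [8, 9, 10, 9, 8], [9], [2], [4], [6], [7], [12], [5, 12, 3, 12, 5]]
/-- a short root element -/
def XW : List ℕ := [4, 5, 4, 13, 4, 5, 4, 2, 5]
/-- a conjugating element -/
def NW : List ℕ := [11, 0, 3, 11]

theorem kc : ∀ i < 14, pe SP (nth [] KW i) = nth (mo 8) KC i ∧ lets 6 (nth [] KW i) = true ∧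
    (i ≠ 13 → lets 5 (nth [] KW i) = true) := by decide +kernel

theorem KC_lt : ∀ x ∈ KC, x < 2 ^ (8 * 8) := by decide +kernel

/-- the named elements -/
noncomputable def kL (i : ℕ) : L8 := pv sL (nth [] KW i)

theorem KW_big {i : ℕ} (h : 14 ≤ i) : nth [] KW i = [] := by rw [nth_eq_getD, List.getD_eq_default _ _ h]

theorem rg_kL (i : ℕ) : RG (kL i) (nth (mo 8) KC i) := (Nat.lt_or_ge i 14).elim (fun h => (kc i h).1 ▸ rg_pe _) fun h => by
  rw [kL, KW_big h, nth_eq_getD, List.getD_eq_default _ _ h]; exact rg_cd.one'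

theorem kL6 (i : ℕ) : kL i ∈ LL 6 := (Nat.lt_or_ge i 14).elim (fun h => pv_LL (kc i h).2.1) fun h => by
  rw [kL, KW_big h]; exact one_mem _

theorem kL5 {i : ℕ} (n : i ≠ 13) : kL i ∈ LL 5 := (Nat.lt_or_ge i 14).elim (fun h => pv_LL ((kc i h).2.2 n)) fun h => by
  rw [kL, KW_big h]; exact one_mem _

theorem rg_k (w : List ℕ) : RG (pv kL w) (pe KC w) := cd_pe rg_cd fun i _ => rg_kL i

theorem k_eq {v w : List ℕ} (h : pe KC v = pe KC w) : pv kL v = pv kL w := (rg_k v).eq (h ▸ rg_k w)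

theorem k_eq' {v w : List ℕ} (h : pv kL v = pv kL w) : pe KC v = pe KC w :=
  (rg_k v).uniq (h ▸ rg_k w) (pe_lt KC_lt _) (pe_lt KC_lt _)

open _root_.Classical in
/-- the named elements in `LL m` -/
noncomputable def km (m i : ℕ) : LL m := if h : kL i ∈ LL m then ⟨kL i, h⟩ else 1

theorem km_coe {m i : ℕ} (h : kL i ∈ LL m) : (km m i : L8) = kL i := by rw [km, dif_pos h]

theorem coe_pv {m : ℕ} {w : List ℕ} (h : ∀ i ∈ w, kL i ∈ LL m) : ((pv (km m) w : LL m) : L8) = pv kL w := by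
  induction w with
  | nil => rfl
  | cons i w ih => rw [pv_cons, pv_cons, coe_mul, km_coe (h i (by simp)), ih fun j hj => h j (by simp [hj])]

theorem k6_eq {v w : List ℕ} (h : pe KC v = pe KC w) : pv (km 6) v = pv (km 6) w :=
  Subtype.ext (by rw [coe_pv fun i _ => kL6 i, coe_pv fun i _ => kL6 i, k_eq h])

variable {G : Type*} [Group G] {g : ℕ → G}

/-- positive words as words with signs -/
noncomputable def odd (w : List ℕ) : List ℕ := lmap (fun i => Nat.succ (Nat.mul (nat_lit 2) i)) w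

theorem ev_odd (g : ℕ → G) (w : List ℕ) : ev g (odd w) = pv g w := by
  rw [odd, lmap_eq]
  induction w with
  | nil => rfl
  | cons i w ih => rw [List.map_cons, ← List.singleton_append, ev_append, ih, pv_cons]; exact congrArg (· * _) (ev_single g i)

/-- the relations of the orthogonal group hold -/
structure Mg (g : ℕ → G) : Prop where
  h1 : ∀ i, 13 ≤ i → g i = 1
  rel : ∀ r ∈ relM, ev g r = 1

theorem Mg.triv (h : Mg g) {w : List ℕ} (hw : trivM (odd w) = true) : pv g w = 1 :=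
  ev_odd g w ▸ trivM_sound h.h1 h.rel hw

/-- the input of the construction -/
structure Tin (g : ℕ → G) (κ : LL 6 →* G) (e : G) : Prop extends Mg g where
  inj : Function.Injective κ
  k : ∀ i ∈ [2, 3, 4, 5, 6, 7, 9, 10], κ (km 6 i) = pv g (nth [] PW i)
  ce : ∀ w ∈ FW, Commute e (pv g w)
  x0 : κ (pv (km 6) XW) = (pv g NW)⁻¹ * e * pv g NW

end CF.F4L
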