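import Cfsg.Agent.F4L.C1
import Cfsg.Agent.F4L.T2
import Cfsg.Agent.PLocal.U6m

/-! The smaller centralizer of `w` does not occur. -/

set_option autoImplicit false
set_option maxRecDepth 100000
set_option linter.unusedSectionVars false

namespace CF.F4L
open Subgroup Cfsg CF.BG CF.W3 CF.Char CF.U6 CF.Comp CF.X8
open U6.S2 (tp χ_tp)
open Fm hiding q A B h
open scoped commutatorElement

universe u

theorem kd_of {H : Type u} [Group H] [Finite H] {β : Km →* H} (inj : Function.Injective β) (rc : ∀ g, g * β Km.r = β Km.r * g)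
    (cz : 𝐂₁ (β (Km.i Pm.z)) ≤ β.range) (wc : ∀ g c, g * β (Km.i Pm.z) * g⁻¹ = β (Km.i (Pm.j c)) → U6.f3 c = .o)
    (p23 : PiGrp {2, 3} (𝐂₁ (β (Km.i Pm.u))))
    (cc : ∀ k ≠ .o, 𝐂₁ (β (Km.i Pm.u)) ⊓ 𝐂₁ (β (Km.i (Pm.j (.o, .p, k)))) ≤ 𝐍 (Pm.J.map (β.comp Km.i)))
    (mv : ∃ g ∈ 𝐍 (Pm.J.map (β.comp Km.i)), g * β (Km.i Pm.z) * g⁻¹ ∉ zpowers (β (Km.i Pm.z))) :
    Kd (β.comp Km.i) (Km.pr.ker.map β) (β Km.r) := by
  have mz : ∀ {k}, β k ∈ zpowers (β Km.r) ↔ k ∈ zpowers Km.r := by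
    intro k; rw [← MonoidHom.map_zpowers, mem_map_iff_mem inj]
  refine ⟨inj.comp fun _ _ e => congrArg Km.p e, rc, (orderOf_injective _ inj _).trans Km.or, mem_map_of_mem _ rfl,
    by rw [card_map inj, Km.card_k], ?_, ?_, fun g m => ?_,
    fun p => map_norm (le_top.trans (normalizer_eq_top _).ge) _ (mem_map_of_mem _ (mem_top (Km.i p))),
    fun p e => ?_, fun p e => ?_, fun p e Y n l => ?_, fun p m => (mem_map_iff_mem inj).1 m, wc, p23, cc, mv⟩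
  · rintro _ ⟨a, m, rfl⟩
    obtain ⟨⟨A, e⟩, rfl⟩ := Km.mem_k.1 m
    rw [← map_mul, mz]
    exact Km.mem_r.2 ⟨mul_one _, (by decide +kernel : ∀ A : U6.S2, A.χ = .o → A * A = 1 ∨ A * A = U6.S2.n) A e⟩
  · rw [← map_inf_cent inj, ← MonoidHom.map_zpowers]
    refine map_mono fun a m => Km.mem_r.2 ⟨m.1, ?_⟩
    obtain ⟨⟨A, e⟩, rfl⟩ := Km.mem_k.1 m.1
    exact (by decide +kernel : ∀ A : U6.S2, A.χ = .o → (∀ B : U6.S2, B.χ = .o → B * A = A * B) → A = 1 ∨ A = U6.S2.n) A e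
      fun B k => congrArg Km.A (m.2 (Km.qe B k) rfl)
  · obtain ⟨k, rfl⟩ := cz m
    exact ⟨k.p, _, mem_map_of_mem _ (show (Km.i k.p)⁻¹ * k ∈ _ from inv_mul_cancel k.p), by
      rw [MonoidHom.comp_apply, ← map_mul, mul_inv_cancel_left]⟩
  · rintro _ ⟨a, m, rfl⟩
    refine mem_cent1.2 ((map_mul _ _ _).symm.trans ((congrArg _ (Km.ext ?_ ?_)).trans (map_mul _ _ _)))
    · exact show a.p * p = p * a.p by rw [show a.p = 1 from m, one_mul, mul_one]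
    · exact show a.A * tp p.A.χ = tp p.A.χ * a.A by rw [e]; exact (mul_one _).trans (one_mul _).symm
  · rintro _ ⟨a, m, rfl⟩ k
    rw [MonoidHom.comp_apply, ← map_commutatorElement, mz] at k
    obtain ⟨⟨A, q⟩, rfl⟩ := Km.mem_k.1 m
    exact mz.2 (Km.mem_r.2 ⟨rfl, (by decide +kernel : ∀ k ≠ .o, ∀ A : U6.S2, A.χ = .o → (tp k * A * (tp k)⁻¹ * A⁻¹ = 1 ∨
      tp k * A * (tp k)⁻¹ * A⁻¹ = U6.S2.n) → A = 1 ∨ A = U6.S2.n) _ e A q (Km.mem_r.1 k).2⟩)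
  · obtain ⟨_, ⟨m, a, ma, rfl⟩, k⟩ := SetLike.not_le_iff_exists.1 l
    rintro _ ⟨b, mb, rfl⟩
    have m' := conj_mem_of_norm n m
    rw [MonoidHom.comp_apply, ← map_inv, ← map_mul, ← map_mul] at m'
    obtain ⟨⟨A, q⟩, rfl⟩ := Km.mem_k.1 ma
    obtain ⟨⟨B, q'⟩, rfl⟩ := Km.mem_k.1 mb
    obtain ⟨i, l, e⟩ := (by decide +kernel : ∀ k ≠ .o, ∀ A : U6.S2, A.χ = .o → ¬ (A = 1 ∨ A = U6.S2.n) → ∀ B : U6.S2,
      B.χ = .o → ∃ i l, B = pw A i * pw A i * pw A l * pw (tp k * A * (tp k)⁻¹) l ∨ B = pw A i ∨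
        B = pw (tp k * A * (tp k)⁻¹) i) _ e A q (fun c => k (mz.2 (Km.mem_r.2 ⟨rfl, c⟩))) B q'
    let X := (Y.comap β ⊓ Km.pr.ker).map (MonoidHom.mk' Km.A fun _ _ => rfl : Km →* U6.S2)
    have a1 : A ∈ X := ⟨_, ⟨m, ma⟩, rfl⟩
    have a2 : tp p.A.χ * A * (tp p.A.χ)⁻¹ ∈ X := ⟨_, ⟨m', (MonoidHom.normal_ker _).conj_mem _ ma _⟩, rfl⟩
    obtain ⟨x, mx, e⟩ : B ∈ X := by
      rcases e with e | e | e <;> rw [e]
      exacts [mul_mem (mul_mem (mul_mem (pw_mem a1 _) (pw_mem a1 _)) (pw_mem a1 _)) (pw_mem a2 _), pw_mem a1 _, pw_mem a2 _]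
    exact (Km.ext mx.2 e : x = Km.qe B q') ▸ mx.1

variable {G : Type u} [Group G] [Finite G] {ψ : Fm →* G} {a x w0 : G} {g : ℕ → G} {m : ℕ}

noncomputable section
/-- a diagonal automorphism -/
def dg (A : U6.S2) : U6.S2 := ⟨A.a, ∼A.b, ∼A.c, A.d, (by decide +kernel : ∀ A : U6.S2, A.a ⋆ A.d ⊹ ∼(∼A.b ⋆ ∼A.c) = .p) A⟩
theorem dg_spec : ∀ A, (dg A).χ = ∼A.χ ∧ dg (dg A) = A ∧ ∀ B, dg (A * B) = dg A * dg B := by decide +kernel
/-- the centralizer of `r` -/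
def iR : Km →* Fm := MonoidHom.mk' (fun k => ⟨⟨.o, .o, k.p.a, k.p.b, k.p.e⟩, dg k.A, k.p.A, by
  rw [(dg_spec _).1, ng_ng, k.h]⟩) fun x y => by
  refine Fm.ext (He.ext ?_ ?_ rfl rfl ?_) ((dg_spec _).2.2 _ ) rfl <;> dsimp only [HMul.hMul, Mul.mul, He.act] <;>
    simp only [T.add_eq, T.mul_eq, T.neg_eq, T.o_eq] <;> ring
theorem iR_r : iR Km.r = r := rfl
theorem iRr (k : Km) : iR k * r = r * iR k :=
  (map_mul iR k Km.r).symm.trans ((congrArg iR (Km.ext ((mul_one _).trans (one_mul _).symm)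
    ((by decide +kernel : ∀ A : U6.S2, A * U6.S2.n = U6.S2.n * A) _))).trans (map_mul iR Km.r k))
theorem iR_inj : Function.Injective iR := fun x y e => Km.ext (Pm.ext (congrArg (·.q.c) e) (congrArg (·.q.d) e)
  (congrArg (·.q.e) e) (congrArg Fm.B e)) ((dg_spec x.A).2.1.symm.trans ((congrArg (dg ·.A) e).trans (dg_spec y.A).2.1))
theorem iR_sur {x : Fm} (h : x * r = r * x) : ∃ k, iR k = x := by
  have h1 := congrArg (·.q.a) h
  have h2 := congrArg (·.q.b) h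
  dsimp only [HMul.hMul, Mul.mul, He.act, r, U6.S2.n, OfNat.ofNat, One.one] at h1 h2
  simp only [T.add_eq, T.mul_eq, T.neg_eq, T.o_eq, show T.m = -1 from rfl] at h1 h2
  refine ⟨⟨⟨x.q.c, x.q.d, x.q.e, x.B⟩, dg x.A, (dg_spec _).1.trans x.h.symm⟩,
    Fm.ext (He.ext (show 0 = _ from ?_) (show 0 = _ from ?_) rfl rfl rfl) (dg_spec _).2.1 rfl⟩
  · linear_combination h1 - x.q.a * T.three
  · linear_combination h2 - x.q.b * T.three
/-- coordinates -/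
def rv (c : T × T × T) : V4 := (c.1, c.2.1 ⊹ c.2.2, c.2.1 ⊹ c.2.2, c.2.1 ⊹ ∼c.2.2)
theorem iR_j : ∀ c, iR (Km.i (Pm.j c)) = j (rv c) := by decide +kernel

/-- the model in the centralizer of `r` -/
def κr (ψ : Fm →* G) : Km →* 𝐂₁ (ψ r) := (ψ.comp iR).codRestrict _ fun k => cm4 (iRr k)

theorem κrj (c : T × T × T) : (κr ψ (Km.i (Pm.j c))).1 = ψ (j (rv c)) := congrArg ψ (iR_j c)

namespace Mf
variable (h : Mf ψ)
include h

theorem κr_inj : Function.Injective (κr ψ) := fun _ _ e => iR_inj (h.inj (congrArg Subtype.val e))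

theorem nJr (y : 𝐂₁ (ψ r)) (n : y.1 ∈ 𝐍 (J.map ψ)) : y ∈ 𝐍 (Pm.J.map ((κr ψ).comp Km.i)) := by
  have : Pm.J.map ((κr ψ).comp Km.i) = (J.map ψ).subgroupOf _ := by
    ext x
    refine mJ.trans ⟨fun ⟨c, e⟩ => e ▸ mem_subgroupOf.2 (by rw [MonoidHom.comp_apply, κrj]; exact j4 _), fun m => ?_⟩
    obtain ⟨c, e⟩ := m4.1 m
    obtain ⟨d, rfl⟩ := (by decide +kernel : ∀ c, j c * r = r * j c → ∃ d, rv d = c) c (h.cm (e.symm ▸ x.2))
    exact ⟨d, Subtype.ext ((κrj _).trans e)⟩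
  exact this ▸ subgroupOf_norm _ le_rfl n

theorem crz (y : 𝐂₁ (ψ r)) (c : y.1 ∈ 𝐂₁ (ψ z)) : y ∈ (κr ψ).range := by
  obtain ⟨a, e⟩ := h.cr ⟨c, y.2⟩
  obtain ⟨k, rfl⟩ := iR_sur (h.cm (e.symm ▸ y.2))
  exact ⟨k, Subtype.ext e⟩

end Mf

theorem jcm2 {c d : V4} (m : x ∈ 𝐂₁ (ψ (j c))) (n : x ∈ 𝐂₁ (ψ (j d))) : x ∈ 𝐂₁ (ψ (j (c + d))) ⊓ 𝐂₁ (ψ (j (-c + d))) := by
  rw [j_add, j_add, j_neg, map_mul, map_mul, map_inv]
  exact ⟨mem_cent1_comm.1 (mul_mem (mem_cent1_comm.1 m) (mem_cent1_comm.1 n)),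
    mem_cent1_comm.1 (mul_mem (inv_mem (mem_cent1_comm.1 m)) (mem_cent1_comm.1 n))⟩

/-- an element of order four -/
def QW : List ℕ := [3, 5, 6, 7, 6, 12, 3, 5, 7, 12]

namespace Cw
variable {κ : LL 5 →* G} (h : Cw ψ w0 g 5 κ)
include h

theorem cpv {v : List ℕ} (l : 13 ∉ v) : ((pv (km 5) v : LL 5) : L8) = pv kL v := coe_pv fun _ n => kL5 fun e => l (e ▸ n)

theorem p23 : PiGrp {2, 3} (𝐂₁ (ψ r) ⊓ 𝐂₁ (ψ w)) := fun p pp d => by
  obtain ⟨y, m, o⟩ := exists_mem_orderOf_eq pp d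
  by_cases p3 : p = 3
  · exact .inr p3
  obtain ⟨l, rfl⟩ := h.rg m.2 (o ▸ pow_orderOf_eq_one y) fun k => p3 ((Nat.prime_dvd_prime_iff_eq W3.p3 pp).1 k).symm
  have e : pv kL QW * pv kL QW = pv kL [9] := (pv_append _ _ _).symm.trans (k_eq (by decide +kernel))
  refine c23 (q := pv kL QW) (g := l) (pv_mem fun i _ => kL6 i) ?_ ?_ (LL_mono (by decide) l.2) ?_ pp ?_
  · rw [show 2 ^ 2 = 2 * 2 from rfl, pow_mul, pow_two (pv kL QW), e, pow_two, ← pv_append]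
    exact k_eq (w := []) (by decide +kernel)
  · rw [e]; exact fun k => absurd (k_eq' (w := []) k) (by decide +kernel)
  · rw [e, ← h.cpv (by decide)]
    have := mem_cent1.1 m.1
    rw [← h.gr, ← pv1 g, ← h.kv (by decide), ← map_mul, ← map_mul] at this
    exact congrArg Subtype.val (h.ki this)
  · rw [orderOf_coe, ← o, orderOf_injective κ h.ki]

theorem cc5 (c : x ∈ 𝐂₁ (ψ w)) (d : x ∈ 𝐂₁ (ψ (j (.o, .o, .o, .p)))) : x ∈ 𝐍 (J.map ψ) := by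
  obtain ⟨l, i, rfl⟩ := h.cw x c
  have mw := pw_mem (j4 (ψ := ψ) wv) i
  refine mul_mem ?_ (le_norm_self _ mw)
  have k : ∀ {v c}, (∀ i ∈ v, i ∈ [2, 3, 4, 5, 6, 7, 9, 10, 12]) ∧ lets 12 v = true ∧ aev v = .tr c →
      κ (pv (km 5) v) = ψ (j c) := fun e => (h.kv e.1).trans (h.jw e.2)
  have k2 := k (v := [3, 2]) (c := (.o, .p, .o, .o)) (by decide +kernel)
  have k3 := k (v := [5, 4]) (c := (.o, .o, .p, .o)) (by decide +kernel)
  have k4 := k (v := [7, 6]) (c := (.o, .o, .o, .p)) (by decide +kernel)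
  have d := mem_cent1.1 ((mul_mem_cancel_right (ab4.trans (cent_le_cent1 (j4 _)) mw)).1 d)
  rw [← k4, ← map_mul, ← map_mul] at d
  have d := congrArg Subtype.val (h.ki d)
  rw [coe_mul, coe_mul, h.cpv (by decide), pv_cons, pv1] at d
  have n : l.1 ∈ 𝐍 JJ := cen5 l.2 d
  have jk : JJ ≤ ((J.map ψ).comap κ).map (LL 5).subtype := JJ_ind fun n hn => by
    rcases (by omega : n = 0 ∨ n = 1 ∨ n = 2) with rfl | rfl | rfl
    exacts [⟨_, mem_comap.2 (k2 ▸ j4 _), h.cpv (by decide)⟩, ⟨_, mem_comap.2 (k3 ▸ j4 _), h.cpv (by decide)⟩,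
      ⟨_, mem_comap.2 (k4 ▸ j4 _), h.cpv (by decide)⟩]
  have q : ∀ {v c} s, κ (pv (km 5) v) = ψ (j c) → ((pv (km 5) v : LL 5) : L8) = rr kL s → ∃ d, κ l * ψ (j c) * (κ l)⁻¹ = ψ (j d) :=
    fun s e e' => by
      obtain ⟨y, m, k⟩ := jk (conj_mem_of_norm n (rr_J s))
      obtain ⟨d, m⟩ := m4.1 m
      exact ⟨d, by rw [← e, m, ← map_inv, ← map_mul, ← map_mul]; exact congrArg κ (Subtype.ext (by rw [← e'] at k; exact k.symm))⟩
  obtain ⟨_, q2⟩ := q 0 k2 (h.cpv (by decide))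
  obtain ⟨_, q3⟩ := q 1 k3 (h.cpv (by decide))
  obtain ⟨_, q4⟩ := q 2 k4 (h.cpv (by decide))
  exact (a4_lin (mul_inv_eq_iff_eq_mul.2 (mem_cent1.1 (h.kw l))) q2 q3 q4).nor

theorem cr9 {v : List ℕ} (e : lets 12 (v ++ [9]) = true ∧ lets 12 ([9] ++ v) = true ∧ aev (v ++ [9]) = aev ([9] ++ v)) :
    pv g v ∈ 𝐂₁ (ψ r) := mem_cent1.2 (by rw [← h.gr, ← pv1 g 9, ← pv_append, h.eq e, pv_append])

theorem kd : Kd ((κr ψ).comp Km.i) (Km.pr.ker.map (κr ψ)) (κr ψ Km.r) := by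
  have v : ∀ {y : 𝐂₁ (ψ r)} {c}, y ∈ 𝐂₁ (κr ψ (Km.i (Pm.j c))) → y.1 ∈ 𝐂₁ (ψ (j (rv c))) := fun m =>
    κrj (ψ := ψ) _ ▸ mem_cent1.2 (congrArg Subtype.val (mem_cent1.1 m))
  refine kd_of h.κr_inj (fun g => Subtype.ext (mem_cent1.1 g.2)) (fun y m => h.crz y (v (c := (.o, .p, .o)) m)) (fun y c e => ?_)
    ?_ (fun k n y m => h.nJr y ?_) ⟨⟨_, h.cr9 (v := [6]) (by decide +kernel)⟩, h.nJr _ (h.nor (by decide +kernel)), fun k => ?_⟩
  · have := ((h.cl _).1 ⟨y, .inl (.trans (by rw [z, show zv = rv (.o, .p, .o) from rfl, ← κrj]; rfl)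
      ((congrArg Subtype.val e).trans (κrj c)))⟩).1
    exact (by decide +kernel : ∀ c, qf (rv c) = .o → U6.f3 c = .o) c this
  · have := h.p23.le (show (𝐂₁ (κr ψ (Km.i Pm.u))).map (𝐂₁ (ψ r)).subtype ≤ _ from fun _ ⟨g, m, e⟩ =>
      e ▸ ⟨g.2, v (c := (.p, .o, .o)) m⟩)
    rwa [PiGrp, card_map (subtype_injective _)] at this
  · have m1 := v (c := (.p, .o, .o)) m.1
    have m2 := v m.2
    cases k
    · exact (n rfl).elim
    · exact h.sec (by decide +kernel) (by decide +kernel) (by decide +kernel) (jcm2 m1 m2)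
    · refine h.cc5 m1 ?_
      rwa [show rv (.o, .p, .m) = -(.o, .o, .o, .p) by decide +kernel, j_neg, map_inv, cent1_inv] at m2
  · obtain ⟨i, e⟩ := k
    have := congrArg Subtype.val e
    simp only [coe_zpow, coe_mul, coe_inv, Pm.zj, κrj] at this
    rw [h.act (d := (.o, .p, .p, .m)) (by decide +kernel)] at this
    exact absurd (h.mz.1 ⟨i, this⟩) (by rw [mem_pw (oj (by decide +kernel))]; decide +kernel)

theorem ne5 (M : Mg g) : False := by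
  have k := h.kd
  have o : orderOf (ψ r) = 2 := (orderOf_coe (κr ψ Km.r)).trans k.or
  obtain ⟨e1, e2, e3, _, m, ⟨e⟩, q⟩ := k.fin
  obtain ⟨π, I⟩ := exists_inp o e1 e2 e3 e
  have r9 : ψ r = pv g [9] := h.gr.symm.trans (pv1 g 9).symm
  have cm : ∀ {u v}, TT4.eqT (u ++ v) (v ++ u) = true → pv g u ∈ 𝐂₁ (pv g v) := fun e =>
    mem_cent1.2 (by simpa only [pv_append] using TT4.eq_of M e)
  have qr : pv g QW ∈ 𝐂₁ (ψ r) := r9 ▸ cm (by decide +kernel)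
  obtain ⟨a, ea⟩ := h.crz ⟨_, qr⟩ (by
    rw [z, ← h.jw (w := [3, 2, 5, 4, 7, 6]) (by decide +kernel)]; exact cm (by decide +kernel))
  have ma : a ∈ Km.pr.ker := by
    refine (by decide +kernel : ∀ p : Pm, p * p = 1 → p * Pm.u = Pm.u * p → p = 1) a.p (congrArg Km.p (h.κr_inj
      (a₁ := a * a) (a₂ := Km.r) ?_)) (congrArg Km.p (h.κr_inj (a₁ := a * Km.i Pm.u) (a₂ := Km.i Pm.u * a) ?_))
    · rw [map_mul, ea]
      exact Subtype.ext (.trans ((pv_append _ _ _).symm.trans (TT4.eq_of M (by decide +kernel))) r9.symm)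
    · rw [map_mul, map_mul, ea]
      refine Subtype.ext ?_
      rw [coe_mul, coe_mul, Pm.u, κrj]
      exact mem_cent1.1 ((h.kv (v := QW) (by decide)).subst (motive := (· ∈ _)) (h.kw _))
  have iv : ∀ {v}, TT4.eqT (v ++ v.reverse) [] = true → pv g v.reverse = (pv g v)⁻¹ := fun e =>
    eq_inv_of_mul_eq_one_right ((pv_append _ _ _).symm.trans (TT4.eq_of M e))
  have mE : ∀ {v}, lets 12 v = true ∧ TT4.eqT (v ++ [9]) ([9] ++ v) = true ∧ TT4.eqT (v ++ v.reverse) [] = true →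
      pv g (v ++ QW ++ v.reverse) ∈ pCoreOf 2 (𝐂₁ (ψ r)) := fun {v} l => by
    have := le_E (R := Km.pr.ker.map (κr ψ)) (h.nJr ⟨_, r9 ▸ cm l.2.1⟩ (h.nor l.1)) (conj_mem_cj.2 (mem_map_of_mem _ ma))
    rw [← k.core, ea] at this
    exact ⟨_, this, by rw [pv_append, pv_append, iv l.2.2]; rfl⟩
  have m1 := mul_mem (mul_mem (mE (v := []) (by decide +kernel)) (mE (v := [6]) (by decide +kernel)))
    (mul_mem (mE (v := [11, 6]) (by decide +kernel)) (mE (v := [1, 11, 6]) (by decide +kernel)))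
  have cj : ∀ {u v}, TT4.eqT u (v ++ [9] ++ v.reverse) = true ∧ TT4.eqT (v ++ v.reverse) [] = true →
      pv g u = pv g v * ψ r * (pv g v)⁻¹ := fun e => by rw [TT4.eq_of M e.1, pv_append, pv_append, iv e.2, r9]
  simp only [← pv_append] at m1
  rw [cj (v := [3, 12, 8, 12, 3]) (by decide +kernel)] at m1
  have n : pv g [3, 12, 8, 12, 3] * ψ r * (pv g [3, 12, 8, 12, 3])⁻¹ ≠ ψ r := fun e => by
    have := cj (u := [3, 12, 8, 12, 3] ++ [9] ++ [3, 12, 8, 12, 3].reverse ++ [9]) (v := [8, 7, 0, 11, 3, 12, 8])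
      (by decide +kernel)
    rw [pv_append, pv_append, pv_append, iv (by decide +kernel), ← r9, e, ← pow_two, ← o, pow_orderOf_eq_one, eq_comm,
      conj_eq_one_iff] at this
    simp [this] at o
  obtain ⟨ν, S⟩ := I.spin (q.imp And.left And.left) ⟨mem_cent1.1 (map_subtype_le _ m1), n⟩
  exact n (S.wl _ m1 (isConj_iff.2 ⟨_, rfl⟩))

end Cw
end

end CF.F4L
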